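import Groth.Agent.Fano.K544.QuintDet
import Groth.Agent.Fano.K544.RankLocus

/-!
# The `4 × 4` Pfaffians of a skew `5 × 5` matrix of linear forms on `P^4`

* `pq M j`: the Pfaffian of the matrix obtained by removing the row and column `j`; `mapForm_pq`.
* `pf_rel`: `∑ j, (-1)^j M_ij Pf_j = 0`.
* `smooth_of_rank`: the scheme of the five Pfaffians over a ring `R` is smooth of relative dimension one if the Jacobian
  matrix has rank at least three at all field valued points.
-/

set_option autoImplicit false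
universe u

open CategoryTheory AlgebraicGeometry Limits TopologicalSpace Opposite MvPolynomial

namespace Groth.Agent.Fano.K431.PfSmooth

open Groth.Agent.Lefpen.H872.RelCI Groth.Agent.Lefpen.H872.RelBase Groth.Agent.Sga5
open K544.QuintDet

/-! ## Algebra -/

section Alg

variable {A : Type u} [CommRing A]

/-- The Pfaffian of the minor without the index `j`. -/
def pf4 (m : Fin 5 → Fin 5 → A) (j : Fin 5) : A :=
  m (j.succAbove 0) (j.succAbove 1) * m (j.succAbove 2) (j.succAbove 3) -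
    m (j.succAbove 0) (j.succAbove 2) * m (j.succAbove 1) (j.succAbove 3) +
    m (j.succAbove 0) (j.succAbove 3) * m (j.succAbove 1) (j.succAbove 2)

theorem pf4_0 (m : Fin 5 → Fin 5 → A) : pf4 m 0 = m 1 2 * m 3 4 - m 1 3 * m 2 4 + m 1 4 * m 2 3 := rfl
theorem pf4_1 (m : Fin 5 → Fin 5 → A) : pf4 m 1 = m 0 2 * m 3 4 - m 0 3 * m 2 4 + m 0 4 * m 2 3 := rfl
theorem pf4_2 (m : Fin 5 → Fin 5 → A) : pf4 m 2 = m 0 1 * m 3 4 - m 0 3 * m 1 4 + m 0 4 * m 1 3 := rfl
theorem pf4_3 (m : Fin 5 → Fin 5 → A) : pf4 m 3 = m 0 1 * m 2 4 - m 0 2 * m 1 4 + m 0 4 * m 1 2 := rfl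
theorem pf4_4 (m : Fin 5 → Fin 5 → A) : pf4 m 4 = m 0 1 * m 2 3 - m 0 2 * m 1 3 + m 0 3 * m 1 2 := rfl

/-- The vector of signed Pfaffians is in the kernel. -/
theorem pf_rel (m : Fin 5 → Fin 5 → A) (hs : ∀ i j, m j i = - m i j) (h0 : ∀ i, m i i = 0) (i : Fin 5) :
    ∑ j : Fin 5, (-1 : A) ^ (j : ℕ) * m i j * pf4 m j = 0 := by
  rw [Fin.sum_univ_five, pf4_0, pf4_1, pf4_2, pf4_3, pf4_4]
  fin_cases i
  · simp only [Fin.zero_eta, h0, Fin.val_zero, Fin.val_one, Fin.val_two, Fin.isValue]
    simp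
    ring
  · simp only [Fin.mk_one, h0, hs 0 1, Fin.val_zero, Fin.val_one, Fin.val_two, Fin.isValue]
    simp
    ring
  · simp only [Fin.reduceFinMk, h0, hs 0 2, hs 1 2, Fin.val_zero, Fin.val_one, Fin.val_two, Fin.isValue]
    simp
    ring
  · simp only [Fin.reduceFinMk, h0, hs 0 3, hs 1 3, hs 2 3, Fin.val_zero, Fin.val_one, Fin.val_two, Fin.isValue]
    simp
    ring
  · simp only [Fin.reduceFinMk, h0, hs 0 4, hs 1 4, hs 2 4, hs 3 4, Fin.val_zero, Fin.val_one, Fin.val_two,
      Fin.isValue]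
    simp
    ring

end Alg

/-! ## Forms -/

section Forms

variable {A : Type u} [CommRing A] {B : Type u} [CommRing B] (φ : A →+* B)

/-- The Pfaffians as forms. -/
noncomputable def pq (M : Fin 5 → Fin 5 → RForm 4 A 1) (j : Fin 5) : RForm 4 A 2 :=
  rmul (M (j.succAbove 0) (j.succAbove 1)) (M (j.succAbove 2) (j.succAbove 3)) rfl -
    rmul (M (j.succAbove 0) (j.succAbove 2)) (M (j.succAbove 1) (j.succAbove 3)) rfl +
    rmul (M (j.succAbove 0) (j.succAbove 3)) (M (j.succAbove 1) (j.succAbove 2)) rfl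

theorem pq_val (M : Fin 5 → Fin 5 → RForm 4 A 1) (j : Fin 5) : (pq M j).1 = pf4 (fun i j => (M i j).1) j := rfl

theorem mapForm_pq (M : Fin 5 → Fin 5 → RForm 4 A 1) (j : Fin 5) :
    mapForm φ (pq M j) = pq (fun i j => mapForm φ (M i j)) j := by
  rw [pq, mapForm_add, mapForm_sub, mapForm_rmul, mapForm_rmul, mapForm_rmul]
  rfl

end Forms

/-! ## Smoothness -/

section Rank

variable {R : Type u} [CommRing R]

/-- one generating family of three equations -/
theorem step {K : Type u} [Field K] [Algebra R K] {e : ℕ} {a : Fin e → ℕ} (G : ∀ j : Fin e, RForm 4 R (a j))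
    (x : Fin (4 + 1) → K) (i : Fin (4 + 1)) (hG : ∀ j, aeval x (G j).1 = 0)
    (hr : 3 ≤ Module.finrank K (Submodule.span K
      (Set.range fun j : Fin e => fun l : Fin 4 => aeval x (pderiv (i.succAbove l) (G j).1))))
    (e' : Fin 3 → Fin e) (S : MvPolynomial (Fin (4 + 1)) R) (hS : aeval x S ≠ 0)
    (hrel : ∀ j, ∃ P : Fin 3 → MvPolynomial (Fin (4 + 1)) R, S * (G j).1 = ∑ m, P m * (G (e' m)).1) :
    ∃ (S : MvPolynomial (Fin (4 + 1)) R) (e' : Fin 3 → Fin e), aeval x S ≠ 0 ∧
        (∀ j, S * (G j).1 ∈ Ideal.span (Set.range fun m => (G (e' m)).1)) ∧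
        LinearIndependent K
          (fun m : Fin 3 => fun l : Fin 4 => aeval x (pderiv (i.succAbove l) (G (e' m)).1)) := by
  refine ⟨S, e', hS, fun j => ?_, ?_⟩
  · obtain ⟨P, hP⟩ := hrel j
    rw [hP]
    exact Ideal.sum_mem _ fun m _ => Ideal.mul_mem_left _ _ (Ideal.subset_span ⟨m, rfl⟩)
  · let w : Fin e → (Fin 4 → K) := fun j l => aeval x (pderiv (i.succAbove l) (G j).1)
    have hd : ∀ j, w j ∈ Submodule.span K (Set.range fun m => w (e' m)) := by
      intro j
      obtain ⟨P, hP⟩ := hrel j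
      have hw : aeval x S • w j = ∑ m, aeval x (P m) • w (e' m) := by
        funext l
        have h1 := congrArg (fun p => aeval x (pderiv (i.succAbove l) p)) hP
        simp only [Derivation.leibniz, map_add, map_sum, smul_eq_mul, map_mul, hG, zero_mul, add_zero] at h1
        simpa [w, Finset.sum_apply] using h1
      have h1 : w j = (aeval x S)⁻¹ • ∑ m, aeval x (P m) • w (e' m) := by
        rw [← hw, smul_smul, inv_mul_cancel₀ hS, one_smul]
      rw [h1]
      exact Submodule.smul_mem _ _ (Submodule.sum_mem _ fun m _ =>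
        Submodule.smul_mem _ _ (Submodule.subset_span ⟨m, rfl⟩))
    have hle : Submodule.span K (Set.range w) ≤ Submodule.span K (Set.range fun m => w (e' m)) := by
      rw [Submodule.span_le]
      rintro _ ⟨j, rfl⟩
      exact hd j
    change LinearIndependent K (fun m => w (e' m))
    rw [linearIndependent_iff_card_le_finrank_span, Fintype.card_fin, Set.finrank]
    exact hr.trans (Submodule.finrank_mono hle)

theorem finrank_ge {K : Type u} [Field K] {e : ℕ} (w : Fin e → (Fin 4 → K)) (e' : Fin 3 → Fin e)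
    (h : LinearIndependent K (fun m => w (e' m))) : 3 ≤ Module.finrank K (Submodule.span K (Set.range w)) := by
  have h1 := finrank_span_eq_card h
  rw [Fintype.card_fin] at h1
  rw [← h1]
  refine Submodule.finrank_mono (Submodule.span_mono ?_)
  rintro _ ⟨m, rfl⟩
  exact ⟨e' m, rfl⟩

variable (M : Fin 5 → Fin 5 → RForm 4 R 1)

theorem exists_entry {K : Type u} [Field K] [Algebra R K] (x : Fin (4 + 1) → K) (i : Fin (4 + 1))
    (hr : 3 ≤ Module.finrank K (Submodule.span K
      (Set.range fun j : Fin 5 => fun l : Fin 4 => aeval x (pderiv (i.succAbove l) (pq M j).1)))) :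
    ∃ p q, aeval x (M p q).1 ≠ 0 := by
  by_contra hcon
  push Not at hcon
  have h0 : (fun j : Fin 5 => fun l : Fin 4 => aeval x (pderiv (i.succAbove l) (pq M j).1)) = 0 := by
    funext j l
    simp only [pq_val, pf4, map_add, map_sub, Derivation.leibniz, smul_eq_mul, map_mul, hcon, zero_mul, add_zero,
      sub_zero, Pi.zero_apply]
  rw [h0] at hr
  have h1 : Submodule.span K (Set.range (0 : Fin 5 → Fin 4 → K)) = ⊥ := by
    rw [Submodule.span_eq_bot]
    rintro _ ⟨j, rfl⟩
    rfl
  rw [h1, finrank_bot] at hr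
  omega

/-- a relation for each Pfaffian -/
theorem exists_rel {A : Type u} [CommRing A] (m : Fin 5 → Fin 5 → A) (hs : ∀ i j, m j i = - m i j)
    (h0 : ∀ i, m i i = 0) (i j : Fin 5) (hij : i ≠ j) (e' : Fin 3 → Fin 5) (he : Function.Injective e')
    (hei : ∀ n, e' n ≠ i) (hej : ∀ n, e' n ≠ j) :
    ∃ P : Fin 3 → A, m i j * pf4 m j = ∑ n, P n * pf4 m (e' n) := by
  have h1 := pf_rel m hs h0 i
  let F : Fin 5 → A := fun l => (-1 : A) ^ (l : ℕ) * m i l * pf4 m l
  have hF : ∑ l, F l = 0 := h1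
  have hFi : F i = 0 := by simp only [F, h0]; ring
  have hcov : (Finset.univ : Finset (Fin 5)) = insert i (insert j (Finset.univ.image e')) := by
    symm
    apply Finset.eq_univ_of_card
    rw [Finset.card_insert_of_notMem, Finset.card_insert_of_notMem, Finset.card_image_of_injective _ he]
    · simp
    · simp only [Finset.mem_image, Finset.mem_univ, true_and, not_exists]
      exact hej
    · simp only [Finset.mem_insert, Finset.mem_image, Finset.mem_univ, true_and, not_or, not_exists]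
      exact ⟨hij, hei⟩
  rw [hcov, Finset.sum_insert, Finset.sum_insert, Finset.sum_image fun a _ b _ h => he h, hFi, zero_add] at hF
  rotate_left
  · simp only [Finset.mem_image, Finset.mem_univ, true_and, not_exists]
    exact hej
  · simp only [Finset.mem_insert, Finset.mem_image, Finset.mem_univ, true_and, not_or, not_exists]
    exact ⟨hij, hei⟩
  refine ⟨fun n => - ((-1 : A) ^ (j : ℕ) * (-1 : A) ^ ((e' n : Fin 5) : ℕ) * m i (e' n)), ?_⟩
  have h2 : (-1 : A) ^ (j : ℕ) * (-1 : A) ^ (j : ℕ) = 1 := by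
    rw [← mul_pow]; simp
  have h3 : ∑ n, -((-1 : A) ^ (j : ℕ) * (-1 : A) ^ ((e' n : Fin 5) : ℕ) * m i (e' n)) * pf4 m (e' n) =
      - ((-1 : A) ^ (j : ℕ) * ∑ n, F (e' n)) := by
    rw [Finset.mul_sum, ← Finset.sum_neg_distrib]
    refine Finset.sum_congr rfl fun n _ => ?_
    simp only [F]
    ring
  rw [h3]
  have h4 : (-1 : A) ^ (j : ℕ) * F j = m i j * pf4 m j := by
    simp only [F]
    linear_combination (m i j * pf4 m j) * h2
  rw [← h4]
  linear_combination ((-1 : A) ^ (j : ℕ)) * hF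

theorem exists_compl' (i j : Fin 5) (hij : i ≠ j) : ∃ e : Fin 3 → Fin 5, Function.Injective e ∧
    (∀ n, e n ≠ i) ∧ (∀ n, e n ≠ j) ∧ ∀ l, l = i ∨ l = j ∨ ∃ n, l = e n := by
  revert i j
  decide

/-- The scheme of the five Pfaffians is smooth of relative dimension one if the Jacobian matrix has rank at least
three. -/
theorem smooth_of_rank (hs : ∀ i j, (M j i).1 = - (M i j).1) (h0 : ∀ i, (M i i).1 = 0)
    (h : ∀ (K : Type u) [Field K] [Algebra R K] (x : Fin (4 + 1) → K) (i : Fin (4 + 1)), x i = 1 →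
      (∀ j, aeval x (pq M j).1 = 0) → ∃ e' : Fin 3 → Fin 5, LinearIndependent K
          (fun m : Fin 3 => fun l : Fin 4 => aeval x (pderiv (i.succAbove l) (pq M (e' m)).1))) :
    SmoothOfRelativeDimension 1 (yStr (pq M)) := by
  refine K544.LocCI.smooth_of_local (c := 3) (pq M) (by norm_num) fun K _ _ x i hi hG => ?_
  obtain ⟨e₀, he₀⟩ := h K x i hi hG
  have hr := finrank_ge (fun j : Fin 5 => fun l : Fin 4 => aeval x (pderiv (i.succAbove l) (pq M j).1)) e₀ he₀
  obtain ⟨p, q, hpq⟩ := exists_entry M x i hr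
  have hne : p ≠ q := by
    rintro rfl
    rw [h0, map_zero] at hpq
    exact hpq rfl
  obtain ⟨e', he', hp, hq, hcov⟩ := exists_compl' p q hne
  refine step (pq M) x i hG hr e' (M p q).1 hpq fun j => ?_
  rcases hcov j with rfl | rfl | ⟨n, rfl⟩
  · obtain ⟨P, hP⟩ := exists_rel (fun i j => (M i j).1) (fun i j => hs i j) (fun i => h0 i) q j hne.symm e' he' hq hp
    refine ⟨fun n => - P n, ?_⟩
    have h1 : (M j q).1 = - (M q j).1 := hs q j
    rw [h1, neg_mul]
    simp only [neg_mul, Finset.sum_neg_distrib]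
    exact congrArg Neg.neg hP
  · exact exists_rel (fun i j => (M i j).1) (fun i j => hs i j) (fun i => h0 i) p j hne e' he' hp hq
  · refine ⟨Pi.single n (M p q).1, ?_⟩
    rw [Finset.sum_eq_single n]
    · rw [Pi.single_eq_same]
    · intro b _ hb
      rw [Pi.single_eq_of_ne hb, zero_mul]
    · intro hb
      exact absurd (Finset.mem_univ n) hb

end Rank

end Groth.Agent.Fano.K431.PfSmooth
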