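import Groth.Agent.Fano.K431.FamGen
import Groth.Agent.Fano.K431.PfSmooth

/-!
# The family of curves `V(4 × 4 Pfaffians of the block M[0..4])` and the Hilbert scheme of a cubic threefold

`U`: the universal Pfaffians over `k[Fin 6 × Fin 6 × Fin 5]`; `I f`: the ideal of the relations `M` skew, `Pf M = f`;
`exists_poly`: near a good point all points are good, with class in the given open set.
-/

set_option autoImplicit false
universe u

open CategoryTheory AlgebraicGeometry Limits TopologicalSpace Opposite MvPolynomial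

namespace Groth.Agent.Fano.K431.PfFam

open Groth.Agent.Lefpen.H872.RelCI Groth.Agent.Lefpen.H872.RelBase Groth.Agent.Sga5
open Groth.Agent.CohqB.ProjBC
open Groth.Agent.Fano.K714 Groth.Agent.Fano.K714.Rat
open Groth.Agent.Fano.K276.QuartUniv K544.QuintDet PfSmooth FamGen

section Pfaffian

variable {A : Type u} [CommRing A] {B : Type u} [CommRing B]

/-- The Pfaffian of a skew `6 × 6` matrix, expanded along the last column. -/
def pf6 (m : Fin 6 → Fin 6 → A) : A :=
  ∑ i : Fin 5, (-1 : A) ^ (i : ℕ) * m i.castSucc 5 * pf4 (fun i j => m i.castSucc j.castSucc) i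

/-- The `15` terms. -/
theorem pf6_eq (m : Fin 6 → Fin 6 → A) : pf6 m =
    m 0 1 * m 2 3 * m 4 5 - m 0 1 * m 2 4 * m 3 5 + m 0 1 * m 3 4 * m 2 5
    - m 0 2 * m 1 3 * m 4 5 + m 0 2 * m 1 4 * m 3 5 - m 0 2 * m 3 4 * m 1 5
    + m 0 3 * m 1 2 * m 4 5 - m 0 3 * m 1 4 * m 2 5 + m 0 3 * m 2 4 * m 1 5
    - m 0 4 * m 1 2 * m 3 5 + m 0 4 * m 1 3 * m 2 5 - m 0 4 * m 2 3 * m 1 5
    + m 1 2 * m 3 4 * m 0 5 - m 1 3 * m 2 4 * m 0 5 + m 1 4 * m 2 3 * m 0 5 := by
  rw [pf6, Fin.sum_univ_five, pf4_0, pf4_1, pf4_2, pf4_3, pf4_4]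
  simp only [Fin.val_zero, Fin.val_one, Fin.val_two, Fin.isValue]
  simp
  ring_nf

theorem map_pf6 (φ : A →+* B) (m : Fin 6 → Fin 6 → A) : φ (pf6 m) = pf6 (fun i j => φ (m i j)) := by
  rw [pf6_eq, pf6_eq]
  simp only [map_add, map_sub, map_mul]

end Pfaffian

variable {k : Type u} [Field k]

/-- The coordinates. -/
abbrev V : Type := Fin 6 × Fin 6 × Fin 5

/-- The coordinates of a matrix of linear forms. -/
def cd (M : Fin 6 → Fin 6 → Fin 5 → k) : V → k := fun v => M v.1 v.2.1 v.2.2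

/-- The linear forms of a matrix. -/
noncomputable def lf {A : Type u} [CommRing A] (M : Fin 6 → Fin 6 → Fin 5 → A) (i j : Fin 6) : RForm 4 A 1 :=
  rlin (M i j)

/-- The Pfaffians of the block. -/
noncomputable def qf {A : Type u} [CommRing A] (M : Fin 6 → Fin 6 → Fin 5 → A) (j : Fin 5) : RForm 4 A 2 :=
  pq (fun i j => lf M i.castSucc j.castSucc) j

/-- `M` is skew with Pfaffian `f`. -/
def PP (f : LefPen.Form 4 k 3) : Set (Fin 6 → Fin 6 → Fin 5 → k) :=
  {M | (∀ i j l, M j i l = - M i j l) ∧ (∀ i l, M i i l = 0) ∧ pf6 (fun i j => (lf M i j).1) = f.1}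

/-- The universal matrix. -/
noncomputable def um (i j : Fin 6) (l : Fin 5) : MvPolynomial V k := X (i, j, l)

/-- The universal Pfaffians. -/
noncomputable def U (j : Fin 5) : RForm 4 (MvPolynomial V k) 2 := qf um j

theorem mapForm_qf {A : Type u} [CommRing A] {B : Type u} [CommRing B] (φ : A →+* B)
    (M : Fin 6 → Fin 6 → Fin 5 → A) (j : Fin 5) : mapForm φ (qf M j) = qf (fun i j l => φ (M i j l)) j := by
  rw [qf, mapForm_pq]
  simp_rw [lf, mapForm_rlin]
  rfl

theorem mem_cd (M : Fin 6 → Fin 6 → Fin 5 → k) : mem (U (k := k)) (cd M) = qf M := by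
  funext j
  change mapForm (eval (cd M)) (qf um j) = _
  rw [mapForm_qf]
  congr 1
  funext i j l
  simp [um, cd]

/-- The universal relation. -/
noncomputable def rel (f : LefPen.Form 4 k 3) : MvPolynomial (Fin 5) (MvPolynomial V k) :=
  pf6 (fun i j => (lf (um (k := k)) i j).1) - MvPolynomial.map C f.1

/-- The relations. -/
noncomputable def I (f : LefPen.Form 4 k 3) : Ideal (MvPolynomial V k) :=
  Ideal.span ((Set.range (fun v : V => um v.2.1 v.1 v.2.2 + um v.1 v.2.1 v.2.2) ∪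
    Set.range (fun v : Fin 6 × Fin 5 => um v.1 v.1 v.2)) ∪ Set.range fun m => coeff m (rel f))

theorem map_rel (f : LefPen.Form 4 k 3) {R : Type u} [CommRing R] (ψ : MvPolynomial V k →+* R) :
    MvPolynomial.map ψ (rel f) = pf6 (fun i j => (lf (fun i j l => ψ (um i j l)) i j).1) -
      MvPolynomial.map (ψ.comp C) f.1 := by
  rw [rel, map_sub, MvPolynomial.map_map, map_pf6]
  congr 2
  funext i j
  exact congrArg Subtype.val (mapForm_rlin ψ (um i j))

theorem I_le_iff (f : LefPen.Form 4 k 3) {R : Type u} [CommRing R] (ψ : MvPolynomial V k →+* R) :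
    I f ≤ RingHom.ker ψ ↔ (∀ i j l, ψ (um j i l) = - ψ (um i j l)) ∧ (∀ i l, ψ (um i i l) = 0) ∧
      pf6 (fun i j => (lf (fun i j l => ψ (um i j l)) i j).1) = MvPolynomial.map (ψ.comp C) f.1 := by
  rw [← sub_eq_zero (b := MvPolynomial.map (ψ.comp C) f.1), ← map_rel, I, Ideal.span_le, MvPolynomial.ext_iff]
  constructor
  · intro h
    refine ⟨fun i j l => ?_, fun i l => ?_, fun m => ?_⟩
    · have h1 := h (Or.inl (Or.inl ⟨(i, j, l), rfl⟩))
      change ψ (um j i l + um i j l) = 0 at h1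
      rw [map_add] at h1
      exact eq_neg_of_add_eq_zero_left h1
    · exact h (Or.inl (Or.inr ⟨(i, l), rfl⟩))
    · rw [coeff_map, coeff_zero]
      exact h (Or.inr ⟨m, rfl⟩)
  · rintro ⟨h1, h2, h3⟩ x hx
    rcases hx with (⟨v, rfl⟩ | ⟨v, rfl⟩) | ⟨m, rfl⟩
    · change ψ (um v.2.1 v.1 v.2.2 + um v.1 v.2.1 v.2.2) = 0
      rw [map_add, h1, neg_add_cancel]
    · exact h2 v.1 v.2
    · have := h3 m
      rwa [coeff_map, coeff_zero] at this

theorem I_le_of_mem {f : LefPen.Form 4 k 3} {M : Fin 6 → Fin 6 → Fin 5 → k} (hM : M ∈ PP f) :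
    I f ≤ RingHom.ker (eval (cd M)) := by
  rw [I_le_iff]
  have h1 : (eval (cd M)).comp (C : k →+* MvPolynomial V k) = RingHom.id k := by
    ext c; simp
  have h2 : ∀ i j l, eval (cd M) (um i j l) = M i j l := fun i j l => by simp [um, cd]
  simp_rw [h1, MvPolynomial.map_id, h2]
  exact hM

theorem mem_span (f : LefPen.Form 4 k 3) {R : Type u} [CommRing R] (ψ : MvPolynomial V k →+* R)
    (h : I f ≤ RingHom.ker ψ) : MvPolynomial.map (ψ.comp C) f.1 ∈
      Ideal.span (Set.range fun j => (mapForm ψ (U (k := k) j)).1) := by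
  rw [← ((I_le_iff f ψ).1 h).2.2, pf6]
  refine Ideal.sum_mem _ fun i _ => Ideal.mul_mem_left _ _ ?_
  refine Ideal.subset_span ⟨i, ?_⟩
  change (mapForm ψ (qf um i)).1 = _
  rw [mapForm_qf]
  rfl

/-- `x` is the point of the Hilbert scheme of `V_+(f)` given by the curve. -/
abbrev IsClassP (f : LefPen.Form 4 k 3) (H : Over (Spec (CommRingCat.of k))) (Z : FGA.HilbSet (ps f) H)
    (M : Fin 6 → Fin 6 → Fin 5 → k) (x : ↥H.left) : Prop := IsCl f H Z (qf M) x

/-- The curve is smooth of dimension one. -/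
def GoodP (M : Fin 6 → Fin 6 → Fin 5 → k) : Prop :=
  Smooth (yStr (qf M)) ∧ topologicalKrullDim ↥(Y (qf M)) = 1

theorem good_of_smooth (M : Fin 6 → Fin 6 → Fin 5 → k) (h : SmoothOfRelativeDimension 1 (yStr (qf M)))
    (hne : Nonempty ↥(Y (qf M))) : GoodP M := by
  refine ⟨SmoothOfRelativeDimension.smooth 1 (yStr (qf M)), ?_⟩
  exact_mod_cast K658.RelDimComp.topologicalKrullDim_eq 1 (yStr (qf M))

/-- near a good point all points are good, with class in the given open set -/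
theorem exists_poly_of_mem_openP [IsAlgClosed k] (f : LefPen.Form 4 k 3) (H : Over (Spec (CommRingCat.of k)))
    (Z : FGA.HilbSet (ps f) H) (hH : FGA.HilbRepresentedBy (ps f) H Z) (A : H.left.Opens)
    {M₀ : Fin 6 → Fin 6 → Fin 5 → k} (hM₀ : M₀ ∈ PP f) (hgood : GoodP M₀) {x₀ : ↥H.left}
    (hx₀ : IsClassP f H Z M₀ x₀) (hA : x₀ ∈ A) :
    ∃ G : MvPolynomial (Fin 6 × Fin 6 × Fin 5) k, eval (cd M₀) G ≠ 0 ∧
      ∀ M ∈ PP f, eval (cd M) G ≠ 0 → GoodP M ∧ ∃ x ∈ A, IsClassP f H Z M x := by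
  have hsurj : Function.Surjective (eval (cd M₀) : MvPolynomial V k →+* k) := fun c => ⟨C c, eval_C c⟩
  have hforms₀ : (fun j => mapForm (eval (cd M₀)) (U (k := k) j)) = qf M₀ := mem_cd M₀
  obtain ⟨g, hg, hgsm⟩ := K544.RankLocus.exists_locus (eval (cd M₀)) hsurj (U (k := k)) (D := 1) (c := 3)
    (by norm_num) (by rw [hforms₀]; exact hgood.1) (by rw [hforms₀, hgood.2]; exact le_rfl)
  have hne : Nonempty ↥(Y (qf M₀)) := by
    by_contra hcon
    rw [not_nonempty_iff] at hcon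
    have h1 := hgood.2
    have h2 : IsEmpty (TopologicalSpace.IrreducibleCloseds ↥(Y (qf M₀))) :=
      ⟨fun Z => Z.isIrreducible.nonempty.elim fun z _ => hcon.elim z⟩
    rw [topologicalKrullDim, Order.krullDim_eq_bot] at h1
    exact absurd h1 (by decide)
  obtain ⟨P, hP, hPc⟩ := FamGen.exists_poly (U (k := k)) (I f) f H Z hH A 1 (fun R _ ψ h => mem_span f ψ h) g
    (fun R _ ψ hψ hu => by
      have h := hgsm R ψ hu
      obtain ⟨h1, h2, -⟩ := (I_le_iff f ψ).1 hψ
      have e : (fun j => mapForm ψ (U (k := k) j)) =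
          pq (fun i j => lf (fun i j l => ψ (um i j l)) i.castSucc j.castSucc) := funext fun j => mapForm_qf ψ um j
      rw [e]
      have e' : ∀ j, mapForm ψ (U (k := k) j) =
          pq (fun i j => lf (fun i j l => ψ (um i j l)) i.castSucc j.castSucc) j := fun j => mapForm_qf ψ um j
      simp_rw [e'] at h
      refine smooth_of_rank _ (fun i j => ?_) (fun i => ?_) h
      · simp only [lf, rlin, h1 i.castSucc j.castSucc, map_neg, neg_mul, Finset.sum_neg_distrib]
      · simp only [lf, rlin, h2 i.castSucc, map_zero, zero_mul, Finset.sum_const_zero])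
    (c₀ := cd M₀) (I_le_of_mem hM₀) (by rw [hg]; exact one_ne_zero) (by rw [mem_cd]; exact hne) (x₀ := x₀)
    (by rw [mem_cd]; exact hx₀) hA
  refine ⟨P, hP, fun M hM hMP => ?_⟩
  obtain ⟨-, h1, h2, h3⟩ := hPc (cd M) (I_le_of_mem hM) hMP
  rw [mem_cd] at h1 h2 h3
  exact ⟨good_of_smooth M h1 h2, h3⟩

end Groth.Agent.Fano.K431.PfFam
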