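import Groth.Agent.Fano.K255.PfDef
import Groth.Agent.Fano.K431.PfFam

/-!
# G3 of S16528: the family of Pfaffian curves and the Hilbert scheme (`exists_poly_of_mem_openE`)

`cE_eq : cE M = rciIdeal (PfFam.qf M)`, `goodE_iff`, `mem_PP_iff'`, `isClassE_iff`.
-/

set_option autoImplicit false
universe u

open CategoryTheory AlgebraicGeometry Limits TopologicalSpace Opposite MvPolynomial

namespace Groth.Agent.Fano.K431.PfFamE

open Groth.Agent.Lefpen.H872.RelCI Groth.Agent.Lefpen.H872.RelBase Groth.Agent.Sga5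
open Groth.Agent.Fano.K714 Groth.Agent.Fano.K714.Rat Groth.Agent.Fano.K714.Quart Groth.Agent.Fano.K715.Quint
open Groth.Agent.Fano.K276.QuartUniv K544.QuintDet K255.Pf

variable {k : Type u} [Field k]

theorem qf_eq (M : DataE k) (j : Fin 5) : PfFam.qf M j = qE M j := by
  apply Subtype.ext
  have h : ∀ i j : Fin 6, (PfFam.lf M i j).1 = matE M i j := fun i j => congrArg Subtype.val (rlin_eq (M i j))
  have h1 : (PfFam.qf M j).1 = PfSmooth.pf4 (fun i j : Fin 5 => matE M i.castSucc j.castSucc) j := by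
    rw [PfFam.qf, PfSmooth.pq_val]
    congr 1
    funext i j
    exact h _ _
  rw [h1]
  fin_cases j <;> rfl

theorem cE_eq (M : DataE k) : cE M = rciIdeal (PfFam.qf M) := by
  rw [cE, rciIdeal]
  refine iSup_congr fun j => ?_
  rw [qf_eq]
  rfl

theorem goodE_iff (M : DataE k) : GoodE M ↔ PfFam.GoodP M := by
  rw [GoodE, cE_eq]
  exact Iff.rfl

theorem isClassE_iff (f : LefPen.Form 4 k 3) (H : Over (Spec (CommRingCat.of k))) (Z : FGA.HilbSet (ps f) H)
    (M : DataE k) (x : ↥H.left) : IsClassE f H Z M x ↔ PfFam.IsClassP f H Z M x := by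
  rw [IsClassE, cE_eq]
  exact Iff.rfl

theorem pf6_eq' {R : Type u} [CommRing R] (m : Fin 6 → Fin 6 → R) : K255.Pf.pf6 m = PfFam.pf6 m := by
  rw [PfFam.pf6_eq, K255.Pf.pf6, K255.Pf.pf4, K255.Pf.pf4, K255.Pf.pf4, K255.Pf.pf4, K255.Pf.pf4]
  ring

theorem mem_PP_of [CharZero k] (f : LefPen.Form 4 k 3) {M : DataE k} (h : M ∈ K255.Pf.PP f.1) : M ∈ PfFam.PP f := by
  refine ⟨fun i j l => congrFun (h.1 j i) l, fun i l => ?_, ?_⟩
  · have h1 : M i i l = - M i i l := congrFun (h.1 i i) l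
    exact self_eq_neg.1 h1
  · rw [← h.2, pf6_eq']
    congr 1
    funext i j
    exact congrArg Subtype.val (rlin_eq (M i j))

/-- near a good point all points are good, with class in the given open set -/
theorem exists_poly_good [IsAlgClosed k] [CharZero k] (f : LefPen.Form 4 k 3) (H : Over (Spec (CommRingCat.of k)))
    (Z : FGA.HilbSet (ps f) H) (hH : FGA.HilbRepresentedBy (ps f) H Z) (A : H.left.Opens)
    {M₀ : DataE k} (hM₀ : M₀ ∈ K255.Pf.PP f.1) (hgood : GoodE M₀) {x₀ : ↥H.left} (hx₀ : IsClassE f H Z M₀ x₀)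
    (hA : x₀ ∈ A) :
    ∃ G : MvPolynomial (Fin 6 × Fin 6 × Fin 5) k, MvPolynomial.eval (coordE M₀) G ≠ 0 ∧
      ∀ M : DataE k, M ∈ K255.Pf.PP f.1 → MvPolynomial.eval (coordE M) G ≠ 0 →
        GoodE M ∧ ∃ x ∈ A, IsClassE f H Z M x := by
  obtain ⟨G, hG, hGM⟩ := PfFam.exists_poly_of_mem_openP f H Z hH A (mem_PP_of f hM₀) ((goodE_iff M₀).1 hgood)
    ((isClassE_iff f H Z M₀ x₀).1 hx₀) hA
  refine ⟨G, hG, fun M hM h => ?_⟩
  obtain ⟨h1, x, hx, h2⟩ := hGM M (mem_PP_of f hM) h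
  exact ⟨(goodE_iff M).2 h1, x, hx, (isClassE_iff f H Z M x).2 h2⟩

/-- **G3** -/
theorem exists_poly_of_mem_openE [IsAlgClosed k] [CharZero k] (f : LefPen.Form 4 k 3)
    (H : Over (Spec (CommRingCat.of k)))
    (Z : FGA.HilbSet (ps f) H) (hH : FGA.HilbRepresentedBy (ps f) H Z) (A : H.left.Opens)
    {M₀ : DataE k} (hM₀ : M₀ ∈ K255.Pf.PP f.1) (hgood : GoodE M₀) {x₀ : ↥H.left} (hx₀ : IsClassE f H Z M₀ x₀)
    (hA : x₀ ∈ A) :
    ∃ G : MvPolynomial (Fin 6 × Fin 6 × Fin 5) k, MvPolynomial.eval (coordE M₀) G ≠ 0 ∧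
      ∀ M : DataE k, M ∈ K255.Pf.PP f.1 → MvPolynomial.eval (coordE M) G ≠ 0 → ∃ x ∈ A, IsClassE f H Z M x := by
  obtain ⟨G, hG, h⟩ := exists_poly_good f H Z hH A hM₀ hgood hx₀ hA
  exact ⟨G, hG, fun M hM hMG => (h M hM hMG).2⟩

end Groth.Agent.Fano.K431.PfFamE
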