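import Groth.Agent.Fano.K470.CurDef
import Groth.Agent.Fano.K714.ConicIrr2

/-!
# A limit of parametrised conics (node CL3 of the cubic threefold plan, `K470.PlanLine.exists_con_limit`)

Two distinct lines `⟨a, b⟩`, `⟨a, u⟩` of a smooth cubic threefold through a common point: their plane is not contained
in the threefold, so (up to exchanging the lines) the residual parametrisation `psi T a b u` is
`0 · s² + c₁ st + c₂ t²` with `c₁ ≠ 0`; it is a limit of parametrised conics.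
-/

set_option autoImplicit false

universe u

namespace Groth.Agent.Fano.K431.ConLimit

open LefPen Groth.Agent.Lefpen.H703.ZOpen Module K714.Irr K714.Frames K470.Cur K656.Trilin K714.Surf

variable {k : Type u} [Field k] [IsAlgClosed k] [CharZero k]
variable {T : (Fin 5 → k) →ₗ[k] (Fin 5 → k) →ₗ[k] (Fin 5 → k) →ₗ[k] k}

/-- values of the parametrisation are limits of parametrised conics -/
theorem phi_mem_Cl (hT : IsSym3 T) (hsm : SmoothOn T ⊤)
    {x : ((Fin 5 → k) × (Fin 5 → k)) × ((Fin 5 → k) × k)} (hx : x ∈ K714.ConicIrr.Ns T) :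
    K714.ConicIrr.phi T x ∈ Cl k (K714.ConicIrr.Con T) := by
  intro O hO hxO
  obtain ⟨c, hc⟩ := K714.ConicIrr.con_nonempty hT hsm
  rw [← K714.ConicIrr.con_eq hT hsm] at hc ⊢
  obtain ⟨⟨y, hy, rfl⟩, hc2⟩ := hc
  obtain ⟨z, hz, hz1, hz2⟩ := (K714.ConicIrr.ns_irr hT hsm).2 _ _ (zo_preimage hO K714.ConicIrr.pm_phi)
    (zo_preimage K714.ConicIrr.isZOpen_indepN K714.ConicIrr.pm_phi) ⟨x, hx, hxO⟩ ⟨y, hy, hc2⟩
  exact ⟨K714.ConicIrr.phi T z, ⟨⟨z, hz, rfl⟩, hz2⟩, hz1⟩

/-- two different lines through a point -/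
theorem exists_two_lines (hT : IsSym3 T) (hsm : SmoothOn T ⊤) :
    ∃ a b u : Fin 5 → k, LinearIndependent k ![a, b, u] ∧ (a, b) ∈ FR T ∧ (a, u) ∈ FR T := by
  obtain ⟨W, a₀, b₀, hW, hs, hab, ha, hb⟩ := K714.ConicIrr.exists_frame_section hT hsm
  have hline := (isLine_span_iff hT (p := (a₀, b₀)) hab.1).2 hab
  have hle : Submodule.span k {a₀, b₀} ≤ W := by
    rw [Submodule.span_le]
    rintro x (rfl | hx)
    · exact ha
    · rw [Set.mem_singleton_iff.1 hx]; exact hb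
  obtain ⟨y, z, hyz, -⟩ := K714.Five.five hT hW hs ⟨_, hline, hle⟩
  have hy := (y 0).2
  have h0 := hyz 0
  obtain ⟨hne, hm⟩ := (K714.SurfGeo.inc_iff hT hW hs hline hy.1 hle hy.2).1 ⟨(z 0).1, (z 0).2, h0⟩
  obtain ⟨e, a, b, hli, hx1, hy1, -, -⟩ := exists_basis_of_meet hline.1 hy.1.1 hne hm
  refine ⟨e, a, b, hli, ?_, ?_⟩
  · exact (isLine_span_iff hT (p := (e, a)) (indep_of_span hline.1 hx1.symm)).1
      (by simpa only [← hx1] using hline)
  · exact (isLine_span_iff hT (p := (e, b)) (indep_of_span hy.1.1 hy1.symm)).1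
      (by simpa only [← hy1] using hy.1)

/-- the main step -/
theorem limit_of (hT : IsSym3 T) (hsm : SmoothOn T ⊤) {a b u : Fin 5 → k}
    (hli : LinearIndependent k ![a, b, u]) (hab : (a, b) ∈ FR T) (hau : (a, u) ∈ FR T)
    (hne : T u u b ≠ 0 ∨ T u a b ≠ 0) :
    ∃ b : A k 1, b 0 ≠ 0 ∧ (Fin.cons 0 b : A k 2) ∈ Cl k (K714.ConicIrr.Con T) := by
  obtain ⟨-, z1, z2, z3, z4⟩ := hau
  simp only at z1 z2 z3 z4
  have z5 : T u a a = 0 := by rw [hT.rot]; exact z2
  have z6 : T u u a = 0 := by rw [hT.rot, hT.rot]; exact z3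
  refine ⟨![K714.ConicIrr.psi T a b u 1, K714.ConicIrr.psi T a b u 2], ?_, ?_⟩
  · intro h0
    simp only [K714.ConicIrr.psi, Matrix.cons_val, z6] at h0
    obtain ⟨h1, -, h3⟩ := K714.ConicIrr.lin3.1 hli (T u u b) 0 (-(2 * T u a b)) (by rw [← h0]; module)
    rcases hne with h | h
    · exact h h1
    · rw [neg_eq_zero, mul_eq_zero] at h3
      exact h (h3.resolve_left two_ne_zero)
  · have hN : (((a, b), (u, (1 : k))) : ((Fin 5 → k) × (Fin 5 → k)) × ((Fin 5 → k) × k)) ∈ K714.ConicIrr.Ns T :=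
      ⟨hab, z4⟩
    have := phi_mem_Cl hT hsm hN
    convert this using 1
    funext i
    simp only [K714.ConicIrr.phi, one_smul]
    fin_cases i
    · simp [K714.ConicIrr.psi, z5, z6]
    · rfl
    · rfl

/-- some limit of parametrised conics is `s · b(s)` with `b(0) ≠ 0` -/
theorem exists_con_limit (hT : IsSym3 T) (hsm : SmoothOn T ⊤) :
    ∃ b : A k 1, b 0 ≠ 0 ∧ (Fin.cons 0 b : A k 2) ∈ Cl k (K714.ConicIrr.Con T) := by
  obtain ⟨a, b, u, hli, hab, hau⟩ := exists_two_lines hT hsm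
  by_cases h1 : T u u b ≠ 0 ∨ T u a b ≠ 0
  · exact limit_of hT hsm hli hab hau h1
  by_cases h2 : T b b u ≠ 0 ∨ T b a u ≠ 0
  · refine limit_of hT hsm ?_ hau hab h2
    rw [K714.ConicIrr.lin3]
    intro x y z h0
    obtain ⟨h3, h4, h5⟩ := K714.ConicIrr.lin3.1 hli x z y (by rw [← h0]; abel)
    exact ⟨h3, h5, h4⟩
  exfalso
  push Not at h1 h2
  have hV : finrank k (Fin 5 → k) = 5 := by simp
  have hx : ∀ v ∈ Submodule.span k {a, b}, T v v v = 0 :=
    ((isLine_span_iff hT (p := (a, b)) hab.1).2 hab).2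
  have hy : ∀ v ∈ Submodule.span k {a, u}, T v v v = 0 :=
    ((isLine_span_iff hT (p := (a, u)) hau.1).2 hau).2
  have hfin := finrank_span_eq_card hli
  rw [Fintype.card_fin] at hfin
  refine K714.TypeConst.no_plane hT hV hsm hfin ?_
  intro v hv
  rw [Matrix.range_cons, Matrix.range_cons, Matrix.range_cons, Matrix.range_empty, Set.union_empty,
    Set.singleton_union, Set.singleton_union] at hv
  obtain ⟨α, w, hw, rfl⟩ := Submodule.mem_span_insert.1 hv
  obtain ⟨β, γ, rfl⟩ := Submodule.mem_span_pair.1 hw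
  rw [← add_assoc, plane_eq hT hx hy]
  have e1 : T a b u = 0 := by rw [hT.rot']; exact h1.2
  have e2 : T b u u = 0 := by rw [hT.rot]; exact h1.1
  rw [e1, h2.1, e2]
  ring

end Groth.Agent.Fano.K431.ConLimit
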