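import Groth.Agent.Fano.K276.QuartFam
import Groth.Agent.Fano.K434.HilbFam

/-!
# Polynomial families of curves on a cubic threefold and the Hilbert scheme: general form

`exists_poly`: `G` forms on `P^4` with coefficients in `k[V]`, `I ⊆ k[V]` an ideal such that `f ∈ (G_j)` modulo `I`,
`g ∈ k[V]` such that the family is smooth of relative dimension `n` over every `k[V]`-algebra killed by `I` in which `g`
is a unit; `c₀ ∈ V(I)`, `g(c₀) ≠ 0`, the member at `c₀` is not empty and its class is in the open set `A` of the Hilbert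
scheme of `V_+(f)`. Then near `c₀` all members over `V(I)` are smooth, nonempty and have their class in `A`.
-/

set_option autoImplicit false
universe u

open CategoryTheory AlgebraicGeometry Limits TopologicalSpace Opposite MvPolynomial

namespace Groth.Agent.Fano.K431.FamGen

open Groth.Agent.Lefpen.H872.RelCI Groth.Agent.Lefpen.H872.RelBase Groth.Agent.Sga5
open Groth.Agent.CohqB.ProjBC
open Groth.Agent.Fano.K714 Groth.Agent.Fano.K714.Rat
open Groth.Agent.Fano.K276.QuartUniv

variable {k : Type u} [Field k]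

/-- `x` is the point of the Hilbert scheme of `V_+(f)` given by the closed subscheme `V_+(G)`. -/
def IsCl (f : LefPen.Form 4 k 3) (H : Over (Spec (CommRingCat.of k))) (Z : FGA.HilbSet (ps f) H)
    {e : ℕ} {a : Fin e → ℕ} (G : ∀ j : Fin e, RForm 4 k (a j)) (x : ↥H.left) : Prop :=
  ∃ h : pt k ⟶ H, x = h.left.base (IsLocalRing.closedPoint k) ∧
    FGA.hilbPull (ps f) h Z.1 = ((rciIdeal G).comap (emb f)).comap (pullback.fst (ps f) (pt k).hom)

variable {V : Type} [Finite V] {e : ℕ} {a : Fin e → ℕ} (U : ∀ j : Fin e, RForm 4 (MvPolynomial V k) (a j))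
  (I : Ideal (MvPolynomial V k))

/-- the member at `c` -/
noncomputable abbrev mem (c : V → k) : ∀ j : Fin e, RForm 4 k (a j) := fun j => mapForm (eval c) (U j)

theorem exists_poly (f : LefPen.Form 4 k 3) (H : Over (Spec (CommRingCat.of k)))
    (Z : FGA.HilbSet (ps f) H) (hH : FGA.HilbRepresentedBy (ps f) H Z) (A : H.left.Opens) (n : ℕ)
    (hf : ∀ (R : Type u) [CommRing R] (ψ : MvPolynomial V k →+* R), I ≤ RingHom.ker ψ →
      MvPolynomial.map (ψ.comp C) f.1 ∈ Ideal.span (Set.range fun j => (mapForm ψ (U j)).1))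
    (g : MvPolynomial V k)
    (hgs : ∀ (R : Type u) [CommRing R] (ψ : MvPolynomial V k →+* R), I ≤ RingHom.ker ψ → IsUnit (ψ g) →
      SmoothOfRelativeDimension n (yStr fun j => mapForm ψ (U j)))
    {c₀ : V → k} (hc₀ : I ≤ RingHom.ker (eval c₀)) (hg₀ : eval c₀ g ≠ 0) (hne : Nonempty ↥(Y (mem U c₀)))
    {x₀ : ↥H.left} (hx₀ : IsCl f H Z (mem U c₀) x₀) (hA : x₀ ∈ A) :
    ∃ P : MvPolynomial V k, eval c₀ P ≠ 0 ∧ ∀ c : V → k, I ≤ RingHom.ker (eval c) → eval c P ≠ 0 →
      eval c g ≠ 0 ∧ SmoothOfRelativeDimension n (yStr (mem U c)) ∧ Nonempty ↥(Y (mem U c)) ∧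
        ∃ x ∈ A, IsCl f H Z (mem U c) x := by
  -- the base ring
  let mk : MvPolynomial V k →+* (MvPolynomial V k ⧸ I) := Ideal.Quotient.mk I
  let R : Type u := Localization.Away (mk g)
  let loc : (MvPolynomial V k ⧸ I) →+* R := algebraMap _ R
  let ψ : MvPolynomial V k →+* R := loc.comp mk
  have hψu : IsUnit (ψ g) := IsLocalization.Away.algebraMap_isUnit (mk g)
  have hψk : I ≤ RingHom.ker ψ := by
    intro x hx
    rw [RingHom.mem_ker]
    change loc (mk x) = 0
    rw [show mk x = 0 from Ideal.Quotient.eq_zero_iff_mem.2 hx, map_zero]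
  have hnoeth : IsNoetherianRing R := IsLocalization.isNoetherianRing (Submonoid.powers (mk g)) R inferInstance
  let σ : k →+* R := ψ.comp C
  let G : ∀ j : Fin e, RForm 4 R (a j) := fun j => mapForm ψ (U j)
  have hG : SmoothOfRelativeDimension n (yStr G) := hgs R ψ hψk hψu
  have hGs : Smooth (yStr G) := SmoothOfRelativeDimension.smooth n (yStr G)
  have hmem : MvPolynomial.map σ f.1 ∈ Ideal.span (Set.range fun j => (G j).1) := hf R ψ hψk
  obtain ⟨gH, hgH⟩ := Groth.Agent.Fano.K434.HilbFam.exists_hom_of_family (ps f) H Z hH R σ (yStr G)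
    (toXf σ f G hmem) (toXf_ps σ f G hmem) (isClosedImmersion_lift σ f G hmem)
  -- the points
  have hpt : ∀ c : V → k, I ≤ RingHom.ker (eval c) → eval c g ≠ 0 → ∃ m : R →+* k, m.comp ψ = eval c := by
    intro c hc hcg
    let m0 : (MvPolynomial V k ⧸ I) →+* k := Ideal.Quotient.lift I (eval c) fun a ha => hc ha
    have hm0 : ∀ p, m0 (mk p) = eval c p := fun p => Ideal.Quotient.lift_mk _ _ _
    have hu : IsUnit (m0 (mk g)) := by rw [hm0]; exact hcg.isUnit
    refine ⟨IsLocalization.Away.lift (mk g) hu, ?_⟩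
    ext p
    · change IsLocalization.Away.lift (mk g) hu (loc (mk (C p))) = _
      rw [IsLocalization.Away.lift_eq, hm0]
      rfl
    · change IsLocalization.Away.lift (mk g) hu (loc (mk (X p))) = _
      rw [IsLocalization.Away.lift_eq, hm0]
  have hid : ∀ (c : V → k) (m : R →+* k), m.comp ψ = eval c → m.comp σ = RingHom.id k := by
    intro c m hm
    have : m.comp σ = (m.comp ψ).comp C := rfl
    rw [this, hm]
    ext c; simp
  have hid' : ∀ (c : V → k) (m : R →+* k), m.comp ψ = eval c →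
      Spec.map (CommRingCat.ofHom m) ≫ Spec.map (CommRingCat.ofHom σ) = 𝟙 (Spec (CommRingCat.of k)) := by
    intro c m hm
    rw [← Spec.map_comp, ← CommRingCat.ofHom_comp, hid c m hm, CommRingCat.ofHom_id, Spec.map_id]
  have hGq : ∀ (c : V → k) (m : R →+* k), m.comp ψ = eval c → ∀ j, mem U c j = mapForm m (G j) := by
    intro c m hm j
    apply Subtype.ext
    change MvPolynomial.map (eval c) (U j).1 = MvPolynomial.map m (MvPolynomial.map ψ (U j).1)
    rw [MvPolynomial.map_map, hm]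
  -- classes
  have hclass : ∀ (c : V → k) (m : R →+* k) (hm : m.comp ψ = eval c),
      FGA.hilbPull (ps f) ((Over.homMk (Spec.map (CommRingCat.ofHom m)) (hid' c m hm) :
            pt k ⟶ Over.mk (Spec.map (CommRingCat.ofHom σ))) ≫ gH) Z.1 =
        ((rciIdeal (mem U c)).comap (emb f)).comap (pullback.fst (ps f) (pt k).hom) := by
    intro c m hm
    have h1 := hgH m (hid' c m hm) (Y (mem U c)) (yStr (mem U c)) (rMap m G (mem U c) (hGq c m hm))
      (isPullback_rMap_toSpec m G (mem U c) (hGq c m hm))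
    rw [ker_fibre σ f G hmem m (hid c m hm) (mem U c) (hGq c m hm)] at h1
    rw [h1]
  -- the point of c₀
  obtain ⟨m₀, hm₀⟩ := hpt c₀ hc₀ hg₀
  obtain ⟨h₀, hx₀', hh₀⟩ := hx₀
  have huniq : h₀ = (Over.homMk (Spec.map (CommRingCat.ofHom m₀)) (hid' c₀ m₀ hm₀) :
            pt k ⟶ Over.mk (Spec.map (CommRingCat.ofHom σ))) ≫ gH := by
    have hln : IsLocallyNoetherian (pt k).left := inferInstanceAs (IsLocallyNoetherian (Spec (CommRingCat.of k)))
    refine (hH.2 (pt k) ⟨FGA.hilbPull (ps f) h₀ Z.1, Groth.Agent.Fga.HilbClosed.mem_hilbPull _ h₀ Z⟩).unique rfl ?_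
    change _ = FGA.hilbPull (ps f) h₀ Z.1
    rw [hclass c₀ m₀ hm₀, hh₀]
  -- the image of the family is open
  let B : (Spec (CommRingCat.of R)).Opens := ⟨Set.range (yStr G).base, (yStr G).isOpenMap.isOpen_range⟩
  let A' : (Spec (CommRingCat.of R)).Opens := gH.left ⁻¹ᵁ A ⊓ B
  have hcl : ∀ (c : V → k) (m : R →+* k) (hm : m.comp ψ = eval c),
      (Spec.map (CommRingCat.ofHom m)).base (IsLocalRing.closedPoint k) ∈ B ↔ Nonempty ↥(Y (mem U c)) := by
    intro c m hm
    have hpb := isPullback_rMap_toSpec m G (mem U c) (hGq c m hm)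
    constructor
    · rintro ⟨y, hy⟩
      obtain ⟨z, -, -⟩ := Scheme.exists_preimage_of_isPullback hpb y (IsLocalRing.closedPoint k) hy
      exact ⟨z⟩
    · rintro ⟨y⟩
      refine ⟨(rMap m G (mem U c) (hGq c m hm)).base y, ?_⟩
      have h1 : (rMap m G (mem U c) (hGq c m hm) ≫ yStr G).base y =
          (yStr (mem U c) ≫ Spec.map (CommRingCat.ofHom m)).base y := by rw [hpb.w]
      rw [Scheme.Hom.comp_base, Scheme.Hom.comp_base] at h1
      refine h1.trans ?_
      change (Spec.map (CommRingCat.ofHom m)).base ((yStr (mem U c)).base y) = _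
      congr 1
      exact Subsingleton.elim (α := PrimeSpectrum k) _ _
  have hp₀ : (Spec.map (CommRingCat.ofHom m₀)).base (IsLocalRing.closedPoint k) ∈ A' := by
    refine ⟨?_, (hcl c₀ m₀ hm₀).2 hne⟩
    change gH.left.base ((Spec.map (CommRingCat.ofHom m₀)).base (IsLocalRing.closedPoint k)) ∈ A
    rw [hx₀', huniq] at hA
    exact hA
  obtain ⟨_, ⟨s, rfl⟩, hs₀, hsA⟩ := PrimeSpectrum.isTopologicalBasis_basic_opens.exists_subset_of_mem_open hp₀ A'.2
  have hs₀' : m₀ s ≠ 0 := (Groth.Agent.Fano.K276.QuartFam.mem_basicOpen_comap m₀ s).1 hs₀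
  obtain ⟨N, s', hs'⟩ := IsLocalization.Away.surj (mk g) s
  obtain ⟨t, rfl⟩ := Ideal.Quotient.mk_surjective s'
  have hst : ∀ (c : V → k) (m : R →+* k), m.comp ψ = eval c → m s * eval c g ^ N = eval c t := by
    intro c m hm
    have h1 := congrArg m hs'
    rw [map_mul, map_pow] at h1
    have h2 : ∀ p, m (algebraMap _ R (mk p)) = eval c p := fun p => congr($hm p)
    rw [h2] at h1
    rw [h1]
    exact h2 t
  refine ⟨g * t, ?_, ?_⟩
  · rw [map_mul, ← hst c₀ m₀ hm₀]
    exact mul_ne_zero hg₀ (mul_ne_zero hs₀' (pow_ne_zero _ hg₀))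
  · intro c hc hcgt
    rw [map_mul] at hcgt
    have hcg : eval c g ≠ 0 := left_ne_zero_of_mul hcgt
    have hct : eval c t ≠ 0 := right_ne_zero_of_mul hcgt
    obtain ⟨m, hm⟩ := hpt c hc hcg
    have hms : m s ≠ 0 := by
      rw [← hst c m hm] at hct
      exact left_ne_zero_of_mul hct
    have hin := hsA ((Groth.Agent.Fano.K276.QuartFam.mem_basicOpen_comap m s).2 hms)
    refine ⟨hcg, hgs k (eval c) hc hcg.isUnit, (hcl c m hm).1 hin.2, ?_⟩
    refine ⟨gH.left.base ((Spec.map (CommRingCat.ofHom m)).base (IsLocalRing.closedPoint k)), hin.1, ?_⟩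
    exact ⟨(Over.homMk (Spec.map (CommRingCat.ofHom m)) (hid' c m hm) :
            pt k ⟶ Over.mk (Spec.map (CommRingCat.ofHom σ))) ≫ gH, rfl, hclass c m hm⟩

end Groth.Agent.Fano.K431.FamGen
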